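import Cfsg.Agent.Lib.Helper9.TC2Pack

set_option autoImplicit false
set_option maxRecDepth 100000

namespace Cfsg.Agent.Helper9.TCData.SuzDX
open Cfsg.Agent.Helper9.TC2
noncomputable def entT_0 : BT := (BT.node 6 (BT.node 2 (BT.leaf 0x2510903e30e88340000001f997a61d177059b1566518135c48000b834000c75c0004a1c0007da1e677399be56b919635f896e100024ee8fb62ec87ac8021e186851610483496c74b192854911207cc0200041) (BT.node 4 (BT.leaf 0xa09800096340000000000000210c822c00000027f10000000a62c0000001608ab2150a5026d8c00012060002ecc0002fc8000000000000002e0c0002a1498495be0ea81a54de4f755e00e051da293c94e2d441000d1c0c2) (BT.leaf 0x9e3c000984400000000008630000000000000000000001a89682d88a0000000b930000000130700000000002f07000300c3a10e06341400097bc0009dc7784220a16b678d86269904014b70dd4334ce55060084d0f20143))) (BT.node 8 (BT.leaf 0xa2a668d0000000000228c0000000a1c40007829d8b0000000a7c40005a2000000000004e1c0000000000b031085401800000000000000c030002d0ae61c90299c226c7599de714056614d74fd741602002f488ce13241c4) (BT.node 10 (BT.leaf 0x9c34000a4980008e300000000000000200b00028ef6e24000000178800000000001487c9bc000000000046180000000f04d330000320c0000000000280ab8b9bc636d7fa06016d9576251791590a00ed6314c9cf1728245)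 (BT.leaf 0xa884000000248c000000000000000001f0a0001c8900000006420000a9c4000561c000ca2400000000004416ccc3e130470000d8300035840000b02e716bca000246e1c05ee871998e3557c3004364f573550ad01b2c2c6))))

noncomputable def cerT_0 : BT := (BT.node 6 (BT.node 2 (BT.leaf 0x80402010000002010080402010080400ad80266000100032090c8440219088240019088240202010080402000642209008000400) (BT.node 4 (BT.leaf 0x400010000000000080400000c40000a580000028180805530000800e3003ec0000000000400010080000000a44200010005221000080000) (BT.leaf 0x400010000000010000000000000002010080000ad80000020000000e3003ec04020100092001cc4c0400208e40002001047200010000000))) (BT.node 8 (BT.leaf 0x40200000000200000b200010080000a5800040000000040000002c60201000000000008013b658080000288000400001440002000000000) (BT.node 10 (BT.leaf 0x400010000400000000002001a404000000800000000a66000000004000000ad6000100000000150c0000308080000001840400000000000) (BT.leaf 0xe200000080000000000002000080000010000400010026600000000573013ec0002002ec000265d0c0000010000000000080000000000000))))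

noncomputable def lkT_0 : BT := (BT.leaf 0xc227944e40ac58cb56b59b77ed5ca58eb0eb2430ddbe3710fc50754ec676a9fbd5b44ee14ee98cf1b711dd4f401ce4b481df3b300e23f8cee8035c0e913a85db03607c81f684d917347eb03503ee13bc0e00bb01ed00000)

noncomputable def lcT_0 : BT := (BT.leaf 0x21b2ac035201a900e01f220ea120120016000a800180c5c927142cfa89c564e2c1c86938a0050002641cb58e620048039690c660632872d0ec2d1cb50874018d2292d10a4841a01610022010f402b241616ecc939e582c2818d621ea0145800a0040a020c10f400780000)

noncomputable def pnT_0 : BT := (BT.leaf 0x21acd26d3218cc46130974a655261289a44219048a3c1d8e870391a8ac5a2411094381b0c8742813090402a0c05828120d0200c0401000000)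

noncomputable def clsT_0 : BT := (BT.leaf 0x0)

noncomputable def repT_0 : BT := (BT.leaf 0x0)

noncomputable def tauT_0 : BT := (BT.node 6 (BT.node 2 (BT.leaf 0x0) (BT.node 4 (BT.leaf 0x0) (BT.leaf 0x0))) (BT.node 8 (BT.leaf 0x0) (BT.node 10 (BT.leaf 0x0) (BT.leaf 0x0))))


end Cfsg.Agent.Helper9.TCData.SuzDX
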